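import Mathlib
/-!
Finite free local algebras through which all geometric points of a finite free algebra factor.
-/

set_option autoImplicit false
set_option linter.style.haveILetI false
set_option maxHeartbeats 800000

universe u

open TensorProduct
open scoped TensorProduct

noncomputable section

namespace Groth.Agent.StrictRatLib

variable {A : Type u} [CommRing A]

/-- Finitely many points of a finite free algebra factor through one point of a finite free algebra. -/
theorem exists_tensor_point {B : Type u} [CommRing B] [Algebra A B] [Module.Finite A B] [Module.Free A B]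
    {L : Type u} [CommRing L] [Algebra A L] (S : Finset (B →ₐ[A] L)) :
    ∃ (E : Type u) (_ : CommRing E) (_ : Algebra A E) (_ : Module.Finite A E) (_ : Module.Free A E)
      (φ : E →ₐ[A] L), ∀ α ∈ S, ∃ g : B →ₐ[A] E, φ.comp g = α := by
  classical
  induction S using Finset.induction with
  | empty => exact ⟨A, inferInstance, inferInstance, inferInstance, inferInstance, Algebra.ofId A L,
      fun α h => absurd h (Finset.notMem_empty α)⟩
  | @insert α s _ ih =>
    obtain ⟨E, _, _, _, _, φ, hφ⟩ := ih
    refine ⟨E ⊗[A] B, inferInstance, inferInstance, inferInstance, inferInstance,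
      Algebra.TensorProduct.lift φ α fun _ _ => Commute.all _ _, fun α' h => ?_⟩
    rcases Finset.mem_insert.1 h with rfl | h
    · exact ⟨Algebra.TensorProduct.includeRight, AlgHom.ext fun b => by simp⟩
    · obtain ⟨g, hg⟩ := hφ α' h
      exact ⟨Algebra.TensorProduct.includeLeft.comp g, AlgHom.ext fun b => by simp [← hg]⟩

/-- The points of a finite algebra with values in a domain form a finite set. -/
theorem finite_algHom (B L : Type u) [CommRing B] [Algebra A B] [Module.Finite A B] [CommRing L] [IsDomain L]
    [Algebra A L] : Finite (B →ₐ[A] L) := by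
  classical
  obtain ⟨s, hs⟩ := Algebra.FiniteType.out (R := A) (A := B)
  let P : s → Polynomial A := fun b => (Algebra.IsIntegral.isIntegral (R := A) (b : B)).choose
  have hP : ∀ b : s, (P b).Monic ∧ Polynomial.aeval (b : B) (P b) = 0 := fun b =>
    (Algebra.IsIntegral.isIntegral (R := A) (b : B)).choose_spec
  let r : (B →ₐ[A] L) → ∀ b : s, ((P b).map (algebraMap A L)).roots.toFinset := fun α b => ⟨α b, by
    rw [Multiset.mem_toFinset, Polynomial.mem_roots ((hP b).1.map _).ne_zero, Polynomial.IsRoot,
      Polynomial.eval_map_algebraMap, Polynomial.aeval_algHom_apply, (hP b).2, map_zero]⟩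
  refine Finite.of_injective r fun α α' h => AlgHom.ext_of_adjoin_eq_top hs fun b hb => ?_
  exact congrArg Subtype.val (congrFun h ⟨b, hb⟩)

variable [IsArtinianRing A] [IsLocalRing A]

/-- A finite free local algebra through which every geometric point of a finite free algebra factors. -/
theorem exists_splitting_algebra (B : Type u) [CommRing B] [Algebra A B] [Module.Finite A B] [Module.Free A B] :
    ∃ (A' : Type u) (_ : CommRing A') (_ : IsLocalRing A') (_ : Algebra A A') (_ : Module.Finite A A')
      (_ : Module.Free A A'), ∀ (Ω : Type u) [Field Ω] [IsAlgClosed Ω] [Algebra A Ω] (α : B →ₐ[A] Ω)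
        (β : A' →ₐ[A] Ω), ∃ g : B →ₐ[A] A', β.comp g = α := by
  classical
  let k := IsLocalRing.ResidueField A
  let L := AlgebraicClosure k
  haveI : Finite (B →ₐ[A] L) := finite_algHom B L
  haveI : Fintype (B →ₐ[A] L) := Fintype.ofFinite _
  obtain ⟨E, _, _, _, _, φ, hφ⟩ := exists_tensor_point (Finset.univ : Finset (B →ₐ[A] L))
  let P : Ideal E := RingHom.ker φ
  haveI : P.IsPrime := RingHom.ker_isPrime _
  haveI : IsArtinianRing E := IsArtinianRing.of_finite A E
  let A' := Localization.AtPrime P
  haveI : Module.Finite A A' := Module.Finite.of_surjective (IsScalarTower.toAlgHom A E A').toLinearMap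
    (IsArtinianRing.localization_surjective P.primeCompl A')
  haveI : Module.Flat E A' := IsLocalization.flat _ P.primeCompl
  haveI : Module.Flat A A' := Module.Flat.trans A E A'
  haveI : Module.Free A A' := Module.free_of_flat_of_isLocalRing
  refine ⟨A', inferInstance, inferInstance, inferInstance, inferInstance, inferInstance,
    fun Ω _ _ _ α β => ?_⟩
  let φ' : A' →ₐ[A] L := IsLocalization.liftAlgHom (M := P.primeCompl) (f := φ) fun y =>
    isUnit_iff_ne_zero.2 fun h => y.2 (RingHom.mem_ker.2 h)
  have hφ' : ∀ e : E, φ' (algebraMap E A' e) = φ e := fun e => by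
    simp [φ']
  haveI : IsArtinianRing A' := IsArtinianRing.of_finite A A'
  have hker : ∀ {F : Type u} [Field F] (f : A' →+* F), ∀ x ∈ IsLocalRing.maximalIdeal A', f x = 0 := by
    intro F _ f x hx
    haveI : (RingHom.ker f).IsPrime := RingHom.ker_isPrime f
    exact (IsLocalRing.eq_maximalIdeal (IsArtinianRing.isMaximal_of_isPrime (RingHom.ker f))).ge hx
  let κ := IsLocalRing.ResidueField A'
  let φb : κ →+* L := Ideal.Quotient.lift _ φ'.toRingHom (hker φ'.toRingHom)
  let βb : κ →+* Ω := Ideal.Quotient.lift _ β.toRingHom (hker β.toRingHom)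
  letI : Algebra κ L := φb.toAlgebra
  letI : Algebra κ Ω := βb.toAlgebra
  haveI : IsScalarTower A κ L := IsScalarTower.of_algebraMap_eq fun a => (φ'.commutes a).symm
  haveI : Algebra.IsIntegral A k := Algebra.IsIntegral.of_surjective (Algebra.ofId A k) IsLocalRing.residue_surjective
  haveI : Algebra.IsIntegral A L := Algebra.IsIntegral.trans (A := k)
  haveI : Algebra.IsIntegral κ L := Algebra.IsIntegral.tower_top A
  haveI : Algebra.IsAlgebraic κ L := Algebra.IsIntegral.isAlgebraic
  let ε : L →ₐ[κ] Ω := IsAlgClosed.lift
  have hε : ∀ x : A', ε (φ' x) = β x := fun x => ε.commutes (IsLocalRing.residue A' x)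
  have hεA : ∀ a : A, ε (algebraMap A L a) = algebraMap A Ω a := fun a => by
    rw [← φ'.commutes a, hε, β.commutes]
  have hrange : ∀ b : B, ∃ l : L, ε l = α b := fun b => by
    obtain ⟨Q, hQ, hQb⟩ := Algebra.IsIntegral.isIntegral (R := A) b
    refine RingHom.mem_range.1 ((IsAlgClosed.splits (Q.map (algebraMap A L))).mem_range_of_isRoot
      (hQ.map _).ne_zero (i := ε.toRingHom) ?_)
    rw [Polynomial.IsRoot, Polynomial.map_map, show ε.toRingHom.comp (algebraMap A L) = algebraMap A Ω from
      RingHom.ext hεA, Polynomial.eval_map_algebraMap, Polynomial.aeval_algHom_apply]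
    rw [show Polynomial.aeval b Q = 0 from hQb, map_zero]
  choose α₀ hα₀ using hrange
  have hinj : Function.Injective ε := ε.toRingHom.injective
  let α' : B →ₐ[A] L :=
    { toFun := α₀
      map_one' := hinj (by rw [hα₀, map_one, map_one])
      map_mul' := fun x y => hinj (by rw [hα₀, map_mul, map_mul, hα₀, hα₀])
      map_zero' := hinj (by rw [hα₀, map_zero, map_zero])
      map_add' := fun x y => hinj (by rw [hα₀, map_add, map_add, hα₀, hα₀])
      commutes' := fun a => hinj (by
        show ε (α₀ (algebraMap A B a)) = ε (algebraMap A L a)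
        rw [hα₀, α.commutes, hεA]) }
  obtain ⟨g, hg⟩ := hφ α' (Finset.mem_univ _)
  refine ⟨(IsScalarTower.toAlgHom A E A').comp g, AlgHom.ext fun b => ?_⟩
  show β (algebraMap E A' (g b)) = α b
  rw [← hε, hφ', ← hα₀ b]
  exact congrArg ε (congr($hg b))

end Groth.Agent.StrictRatLib
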